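import Cfsg.Agent.Lib.Steiner.PlanePSL

/-!
A Heisenberg group over the field with four elements and the Sylow 2-subgroup of PSL(3,4).
-/

set_option autoImplicit false
set_option linter.style.haveILetI false

namespace Cfsg.Agent.Order64

universe u

/-- Triples with the twisted product. -/
@[ext] structure Heis (F : Type u) where
  a : F
  b : F
  c : F

variable {F : Type u} [Field F]

instance : Mul (Heis F) := ⟨fun x y => ⟨x.a + y.a, x.b + y.b, x.c + y.c + x.b * y.a⟩⟩
instance : One (Heis F) := ⟨⟨0, 0, 0⟩⟩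
instance : Inv (Heis F) := ⟨fun x => ⟨-x.a, -x.b, -x.c + x.b * x.a⟩⟩

@[simp] theorem Heis.mul_a (x y : Heis F) : (x * y).a = x.a + y.a := rfl
@[simp] theorem Heis.mul_b (x y : Heis F) : (x * y).b = x.b + y.b := rfl
@[simp] theorem Heis.mul_c (x y : Heis F) : (x * y).c = x.c + y.c + x.b * y.a := rfl
@[simp] theorem Heis.one_a : (1 : Heis F).a = 0 := rfl
@[simp] theorem Heis.one_b : (1 : Heis F).b = 0 := rfl
@[simp] theorem Heis.one_c : (1 : Heis F).c = 0 := rfl
@[simp] theorem Heis.inv_a (x : Heis F) : x⁻¹.a = -x.a := rfl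
@[simp] theorem Heis.inv_b (x : Heis F) : x⁻¹.b = -x.b := rfl
@[simp] theorem Heis.inv_c (x : Heis F) : x⁻¹.c = -x.c + x.b * x.a := rfl

instance : Group (Heis F) where
  mul_assoc x y z := by ext <;> simp <;> ring
  one_mul x := by ext <;> simp
  mul_one x := by ext <;> simp
  inv_mul_cancel x := by ext <;> simp

/-- The triples. -/
def Heis.equivTriple (F : Type u) : Heis F ≃ F × F × F where
  toFun x := (x.a, x.b, x.c)
  invFun z := ⟨z.1, z.2.1, z.2.2⟩
  left_inv _ := rfl
  right_inv _ := rfl

instance [Finite F] : Finite (Heis F) := Finite.of_equiv _ (Heis.equivTriple F).symm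

theorem Heis.card : Nat.card (Heis F) = Nat.card F * (Nat.card F * Nat.card F) := by
  rw [Nat.card_congr (Heis.equivTriple F), Nat.card_prod, Nat.card_prod]

/-- The matrix of a triple. -/
def toSL : Heis F →* Matrix.SpecialLinearGroup (Fin 3) F where
  toFun x := ⟨!![1, x.b, x.c; 0, 1, x.a; 0, 0, 1], by simp [Matrix.det_fin_three]⟩
  map_one' := by
    ext i j
    fin_cases i <;> fin_cases j <;> simp
  map_mul' x y := by
    refine Subtype.ext ?_
    show _ = (!![1, x.b, x.c; 0, 1, x.a; 0, 0, 1] : Matrix (Fin 3) (Fin 3) F) * !![1, y.b, y.c; 0, 1, y.a; 0, 0, 1]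
    ext i j
    fin_cases i <;> fin_cases j <;> simp [Matrix.SpecialLinearGroup.coe_mul, Matrix.mul_apply, Fin.sum_univ_three] <;> ring

theorem toPSL_injective :
    Function.Injective ((QuotientGroup.mk' (Subgroup.center (Matrix.SpecialLinearGroup (Fin 3) F))).comp
      (toSL (F := F))) := by
  refine (injective_iff_map_eq_one _).2 fun x hx => ?_
  have h := (QuotientGroup.eq_one_iff (toSL x)).1 hx
  obtain ⟨r, -, hr⟩ := Matrix.SpecialLinearGroup.mem_center_iff.1 h
  have e : ∀ i j, (Matrix.scalar (Fin 3) r) i j = (!![1, x.b, x.c; 0, 1, x.a; 0, 0, 1] : Matrix _ _ F) i j :=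
    fun i j => by rw [hr]; rfl
  have h01 := e 0 1
  have h02 := e 0 2
  have h12 := e 1 2
  simp at h01 h02 h12
  exact Heis.ext h12.symm h01.symm h02.symm

theorem exists_sylow [Fintype F] (hF : Fintype.card F = 4) :
    ∃ S : Sylow 2 (Matrix.ProjectiveSpecialLinearGroup (Fin 3) F),
      Nonempty (Heis F ≃* ↥(S : Subgroup (Matrix.ProjectiveSpecialLinearGroup (Fin 3) F))) := by
  classical
  set f := (QuotientGroup.mk' (Subgroup.center (Matrix.SpecialLinearGroup (Fin 3) F))).comp (toSL (F := F))
  have hc : Nat.card f.range = 2 ^ (Nat.card (Matrix.ProjectiveSpecialLinearGroup (Fin 3) F)).factorization 2 := by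
    letI : Fintype (Projectivization F (Fin 3 → F)) := Fintype.ofFinite _
    rw [← Nat.card_congr (MonoidHom.ofInjective (toPSL_injective (F := F))).toEquiv, Heis.card,
      Nat.card_eq_fintype_card, hF, PlanePSL.card_psl hF]
    have h : (20160 : ℕ).factorization 2 = 6 := by
      rw [show (20160 : ℕ) = 2 ^ 6 * 315 by norm_num, Nat.factorization_mul (by norm_num) (by norm_num),
        Finsupp.add_apply, Nat.Prime.factorization_pow Nat.prime_two, Finsupp.single_eq_same,
        Nat.factorization_eq_zero_of_not_dvd (by norm_num : ¬ 2 ∣ 315)]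
    rw [h]
    norm_num
  exact ⟨Sylow.ofCard f.range hc, ⟨MonoidHom.ofInjective toPSL_injective⟩⟩

end Cfsg.Agent.Order64
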