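import Cfsg.Agent.Lib.FGStruct.Order64.Structure
import Cfsg.Agent.Lib.FGStruct.Order64.Model

/-!
The isomorphism type and the fixed points of the involution.
-/

set_option autoImplicit false
set_option linter.style.haveILetI false
open scoped commutatorElement

namespace Cfsg.Agent.Order64

theorem zmod2_cases : ∀ i : ZMod 2, i = 0 ∨ i = 1 := by decide

variable {T : Type*} [Group T] [Finite T] (D : Setup T)
include D

theorem Setup.comm_fixed_unique {u w : T} (hu : D.x u = u) (hw : D.x w = w) (h : ⁅u, w⁆ ≠ 1) {c : T}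
    (hc : c ∈ Subgroup.center T) (hxc : D.x c = c) : c = 1 ∨ c = ⁅u, w⁆ := by
  classical
  set k := ⁅u, w⁆
  have hxk : D.x k = k := by rw [map_commutatorElement, hu, hw]
  by_contra hcon
  push Not at hcon
  -- the fixed points in the centre form a proper subgroup of a group of order four
  let Fx : Subgroup T := Subgroup.center T ⊓ D.x.toMonoidHom.eqLocus (MonoidHom.id T)
  have hne : Fx ≠ Subgroup.center T := fun e => by
    have hk : D.ρ k ∈ Fx := e.ge (D.center_inv (D.comm_mem u w) _)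
    have h1 : D.x (D.ρ k) = D.ρ k := (Subgroup.mem_inf.1 hk).2
    rw [D.xρ, hxk] at h1
    exact h (D.fp _ (D.ρ.injective h1))
  have hdvd : Nat.card Fx ∣ Nat.card (Subgroup.center T) := Subgroup.card_dvd_of_le inf_le_left
  have hle : Nat.card Fx ≤ 2 := by
    have hlt : Nat.card Fx ≠ 4 := fun e => hne (Subgroup.eq_of_le_of_card_ge inf_le_left (by rw [e, D.card_center]))
    rw [D.card_center] at hdvd
    have := Nat.le_of_dvd (by norm_num) hdvd
    interval_cases h : Nat.card Fx <;> omega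
  have h3 : ({1, k, c} : Finset T).card = 3 :=
    Finset.card_eq_three.2 ⟨1, k, c, Ne.symm h, hcon.1.symm, hcon.2.symm, rfl⟩
  have hsub : (({1, k, c} : Finset T) : Set T) ⊆ Fx := by
    intro y hy
    simp only [Finset.coe_insert, Finset.coe_singleton, Set.mem_insert_iff, Set.mem_singleton_iff] at hy
    rcases hy with rfl | rfl | rfl
    · exact one_mem _
    · exact Subgroup.mem_inf.2 ⟨D.comm_mem u w, hxk⟩
    · exact Subgroup.mem_inf.2 ⟨hc, hxc⟩
  have h4 := Set.ncard_le_ncard hsub
  rw [Set.ncard_coe_finset, h3, ← Nat.card_coe_set_eq] at h4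
  exact absurd (h4.trans hle) (by norm_num)

theorem Setup.sq_fixed {u w : T} (hu : D.x u = u) (hw : D.x w = w) (h : ⁅u, w⁆ ≠ 1) {y : T} (hy : D.x y = y) :
    y * y = 1 ∨ y * y = ⁅u, w⁆ :=
  D.comm_fixed_unique hu hw h (D.mul_self_mem y) (by rw [map_mul, hy])

theorem Setup.exists_pair : ∃ u w : T, u * u = 1 ∧ w * w = 1 ∧ ⁅u, w⁆ ≠ 1 := by
  obtain ⟨u, w, hu, hw, h⟩ := D.exists_noncomm
  set k := ⁅u, w⁆ with hk
  have hkc : k ∈ Subgroup.center T := D.comm_mem u w
  have hk2 : k * k = 1 := D.center_sq hkc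
  rcases D.sq_fixed hu hw h hu with h1 | h1 <;> rcases D.sq_fixed hu hw h hw with h2 | h2
  · exact ⟨u, w, h1, h2, h⟩
  · refine ⟨u, u * w, h1, ?_, ?_⟩
    · rw [D.sq_mul, h1, h2, D.comm_symm w u, ← hk, one_mul, hk2]
    · rwa [D.comm_mul_right, commutatorElement_self, one_mul]
  · refine ⟨u * w, w, ?_, h2, ?_⟩
    · rw [D.sq_mul, h1, h2, D.comm_symm w u, ← hk, mul_one, hk2]
    · rwa [D.comm_mul_left, commutatorElement_self, mul_one]
  · have hkρ : k * D.ρ k * D.ρ (D.ρ k) = 1 := D.prod_eq k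
    have h3 : ⁅u, D.ρ (D.ρ w)⁆ = D.ρ k := by
      rw [D.ρρ_eq w, D.comm_mul_right, D.comm_inv_right, D.comm_inv_right, (D.comm_rho u w).1, ← hk]
      have h6 := eq_inv_of_mul_eq_one_right hkρ
      rw [h6, D.inv_eq_self (mul_mem hkc (D.center_inv hkc _)), mul_assoc, Subgroup.mem_center_iff.1 hkc (D.ρ k),
        ← mul_assoc, hk2, one_mul]
    refine ⟨u * D.ρ w, u * D.ρ (D.ρ w), ?_, ?_, ?_⟩
    · rw [D.sq_mul, h1, ← map_mul, h2, D.comm_symm (D.ρ w) u, (D.comm_rho u w).1, ← hk]
      exact hkρ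
    · rw [D.sq_mul, h1, ← map_mul, ← map_mul, h2, D.comm_symm (D.ρ (D.ρ w)) u, h3]
      rw [mul_assoc k, ← Subgroup.mem_center_iff.1 (D.center_inv (D.center_inv hkc D.ρ) D.ρ) (D.ρ k), ← mul_assoc]
      exact hkρ
    · rw [D.comm_mul_left, D.comm_mul_right, D.comm_mul_right, commutatorElement_self, one_mul, h3,
        D.comm_symm (D.ρ w) u, (D.comm_rho u w).1, ← hk, commutatorElement_eq_one_iff_mul_comm.2 (D.comm (D.ρ w)),
        mul_one, eq_inv_of_mul_eq_one_right hkρ, D.inv_eq_self (mul_mem hkc (D.center_inv hkc _)),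
        Subgroup.mem_center_iff.1 (mul_mem hkc (D.center_inv hkc _)) (D.ρ k), mul_assoc,
        D.center_sq (D.center_inv hkc _), mul_one]
      exact h

omit D in
/-- Two commuting involutions give a homomorphism. -/
theorem pair_hom {G : Type*} [Group G] {a b : G} (ha : a * a = 1) (hb : b * b = 1) (hab : Commute a b) :
    ∃ f : Multiplicative (ZMod 2 × ZMod 2) →* G, ∀ i j : ZMod 2,
      f (Multiplicative.ofAdd (i, j)) = a ^ i.val * b ^ j.val := by
  have key : ∀ c : G, c * c = 1 → ∀ i i' : ZMod 2, c ^ (i + i').val = c ^ i.val * c ^ i'.val := fun c hc i i' => by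
    rw [← pow_add, ZMod.val_add, ← pow_eq_pow_mod _ (by rwa [pow_two])]
  refine ⟨MonoidHom.mk' (fun z => a ^ (Multiplicative.toAdd z).1.val * b ^ (Multiplicative.toAdd z).2.val) ?_,
    fun i j => rfl⟩
  intro z z'
  rw [toAdd_mul, Prod.fst_add, Prod.snd_add, key a ha, key b hb]
  exact (hab.pow_pow _ _).mul_mul_mul_comm _ _

/-- The isomorphism with the Heisenberg group. -/
theorem Setup.iso {F : Type} [Field F] [Fintype F] (hF : Fintype.card F = 4) : Nonempty (T ≃* Heis F) := by
  classical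
  obtain ⟨u, w, hu, hw, hk⟩ := D.exists_pair
  set k := ⁅u, w⁆ with hkdef
  have hkc : k ∈ Subgroup.center T := D.comm_mem u w
  set a := D.ρ (D.ρ k) with hadef
  have hac : a ∈ Subgroup.center T := D.center_inv (D.center_inv hkc _) _
  haveI : CharP F 2 := by
    refine (CharP.charP_iff_prime_eq_zero Nat.prime_two).2 ?_
    have h : ((4 : ℕ) : F) = 0 := hF ▸ Nat.cast_card_eq_zero F
    have h' : ((2 : ℕ) : F) * (2 : ℕ) = 0 := by rw [← Nat.cast_mul]; exact h
    exact (mul_self_eq_zero.1 h')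
  obtain ⟨ω, hω0, hω1⟩ : ∃ ω : F, ω ≠ 0 ∧ ω ≠ 1 := by
    by_contra hcon
    push Not at hcon
    have h : (Finset.univ : Finset F) ⊆ {0, 1} := fun y _ => by
      by_cases hy : y = 0
      · simp [hy]
      · simp [hcon y hy]
    have h' := (Finset.card_le_card h).trans Finset.card_le_two
    rw [Finset.card_univ, hF] at h'
    norm_num at h'
  have h2 : (2 : F) = 0 := CharP.cast_eq_zero F 2
  have hω2 : ω * ω = 1 + ω := by
    have h3 : ω ^ 3 = 1 := by
      have h := FiniteField.pow_card_sub_one_eq_one ω hω0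
      rwa [hF] at h
    have : (ω - 1) * (ω * ω + ω + 1) = 0 := by linear_combination h3
    have := (mul_eq_zero.1 this).resolve_left (sub_ne_zero.2 hω1)
    linear_combination this - (1 + ω) * h2
  let θ : ZMod 2 × ZMod 2 →+ F := AddMonoidHom.mk' (fun z => (z.1.val : F) + (z.2.val : F) * ω) fun z z' => by
    have hval : ∀ i i' : ZMod 2, (((i + i').val : ℕ) : F) = (i.val : F) + (i'.val : F) := fun i i' => by
      rw [ZMod.val_add, ← Nat.cast_add, CharP.cast_eq_iff_mod_eq F 2, Nat.mod_mod]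
    rw [Prod.fst_add, Prod.snd_add, hval, hval]
    ring
  have hθ : Function.Bijective θ := by
    have hinj : Function.Injective θ := (injective_iff_map_eq_zero θ).2 fun z hz => by
      obtain ⟨i, j⟩ := z
      have hz' : (i.val : F) + (j.val : F) * ω = 0 := hz
      rcases zmod2_cases i with rfl | rfl <;> rcases zmod2_cases j with rfl | rfl <;>
        simp [ZMod.val_one] at hz'
      · rfl
      · exact absurd hz' hω0
      · exact absurd (show ω = 1 by linear_combination hz' - h2) hω1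
    haveI : Finite F := inferInstance
    refine (Nat.bijective_iff_injective_and_card _).2 ⟨hinj, ?_⟩
    rw [Nat.card_prod, Nat.card_zmod, Nat.card_eq_fintype_card, hF]
  let e : Multiplicative F →* Multiplicative (ZMod 2 × ZMod 2) :=
    AddMonoidHom.toMultiplicative (AddEquiv.ofBijective θ hθ).symm.toAddMonoidHom
  have hρi : ∀ y : T, y * y = 1 → D.ρ y * D.ρ y = 1 := fun y hy => by rw [← map_mul, hy, map_one]
  obtain ⟨fu, hfu⟩ := pair_hom hu (hρi u hu) (D.comm u)
  obtain ⟨fw, hfw⟩ := pair_hom hw (hρi w hw) (D.comm w)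
  obtain ⟨fz, hfz⟩ := pair_hom (D.center_sq hkc) (D.center_sq hac) (Subgroup.mem_center_iff.1 hac k)
  set U := fu.comp e with hU
  set W := fw.comp e with hW
  set Pz := fz.comp e with hPz
  have hval : ∀ (f : Multiplicative (ZMod 2 × ZMod 2) →* T) (i j : ZMod 2),
      (f.comp e) (Multiplicative.ofAdd ((i.val : F) + (j.val : F) * ω)) = f (Multiplicative.ofAdd (i, j)) :=
    fun f i j => congrArg (fun z => f (Multiplicative.ofAdd z)) ((AddEquiv.ofBijective θ hθ).symm_apply_apply (i, j))
  have hPc : ∀ c, Pz c ∈ Subgroup.center T := fun c => by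
    obtain ⟨⟨i, j⟩, hij⟩ : ∃ z : ZMod 2 × ZMod 2, e c = Multiplicative.ofAdd z := ⟨_, rfl⟩
    rw [hPz, MonoidHom.comp_apply, hij, hfz]
    exact mul_mem (pow_mem hkc _) (pow_mem hac _)
  -- the values on the basis
  have v10 : ∀ f : Multiplicative (ZMod 2 × ZMod 2) →* T,
      (f.comp e) (Multiplicative.ofAdd 1) = f (Multiplicative.ofAdd (1, 0)) := fun f => by
    rw [← hval f 1 0]; simp [ZMod.val_one]
  have v01 : ∀ f : Multiplicative (ZMod 2 × ZMod 2) →* T,
      (f.comp e) (Multiplicative.ofAdd ω) = f (Multiplicative.ofAdd (0, 1)) := fun f => by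
    rw [← hval f 0 1]; simp [ZMod.val_one]
  have hU1 : U (Multiplicative.ofAdd 1) = u := by rw [hU, v10, hfu]; simp [ZMod.val_one]
  have hUω : U (Multiplicative.ofAdd ω) = D.ρ u := by rw [hU, v01, hfu]; simp [ZMod.val_one]
  have hW1 : W (Multiplicative.ofAdd 1) = w := by rw [hW, v10, hfw]; simp [ZMod.val_one]
  have hWω : W (Multiplicative.ofAdd ω) = D.ρ w := by rw [hW, v01, hfw]; simp [ZMod.val_one]
  have hP1 : Pz (Multiplicative.ofAdd 1) = k := by rw [hPz, v10, hfz]; simp [ZMod.val_one]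
  have hPω : Pz (Multiplicative.ofAdd ω) = a := by rw [hPz, v01, hfz]; simp [ZMod.val_one]
  have hspan : ∀ y : F, y = 0 ∨ y = 1 ∨ y = ω ∨ y = 1 + ω := fun y => by
    obtain ⟨⟨i, j⟩, rfl⟩ := hθ.2 y
    show ((i.val : F) + (j.val : F) * ω = 0) ∨ ((i.val : F) + (j.val : F) * ω = 1) ∨
      ((i.val : F) + (j.val : F) * ω = ω) ∨ ((i.val : F) + (j.val : F) * ω = 1 + ω)
    rcases zmod2_cases i with rfl | rfl <;> rcases zmod2_cases j with rfl | rfl <;> simp [ZMod.val_one]
  -- the commutators
  have hbil : ∀ c d : F, ⁅U (Multiplicative.ofAdd c), W (Multiplicative.ofAdd d)⁆ = Pz (Multiplicative.ofAdd (c * d)) := by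
    have hgen : ∀ c ∈ ({1, ω} : Set F), ∀ d ∈ ({1, ω} : Set F),
        ⁅U (Multiplicative.ofAdd c), W (Multiplicative.ofAdd d)⁆ = Pz (Multiplicative.ofAdd (c * d)) := by
      rintro c (rfl | rfl) d (rfl | rfl)
      · rw [hU1, hW1, one_mul, hP1]
      · rw [hU1, hWω, one_mul, hPω, (D.comm_rho u w).1]
      · rw [hUω, hW1, mul_one, hPω, (D.comm_rho u w).2]
      · rw [hUω, hWω, hω2, ofAdd_add, map_mul, hP1, hPω, ← map_commutatorElement, ← hkdef, hadef,
          eq_inv_of_mul_eq_one_right (D.prod_eq k), D.inv_eq_self (mul_mem hkc (D.center_inv hkc _)), ← mul_assoc,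
          D.center_sq hkc, one_mul]
    intro c d
    have hleft : ∀ d ∈ ({1, ω} : Set F), ∀ c,
        ⁅U (Multiplicative.ofAdd c), W (Multiplicative.ofAdd d)⁆ = Pz (Multiplicative.ofAdd (c * d)) := by
      intro d hd c
      rcases hspan c with rfl | rfl | rfl | rfl
      · simp
      · exact hgen 1 (Or.inl rfl) d hd
      · exact hgen c (Or.inr rfl) d hd
      · rw [ofAdd_add, map_mul, D.comm_mul_left, hgen 1 (Or.inl rfl) d hd, hgen ω (Or.inr rfl) d hd, ← map_mul,
          ← ofAdd_add, add_mul]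
    rcases hspan d with rfl | rfl | rfl | rfl
    · simp
    · exact hleft 1 (Or.inl rfl) c
    · exact hleft d (Or.inr rfl) c
    · rw [ofAdd_add, map_mul, D.comm_mul_right, hleft 1 (Or.inl rfl) c, hleft ω (Or.inr rfl) c, ← map_mul,
        ← ofAdd_add, mul_add]
  let Φ : Heis F →* T := MonoidHom.mk'
    (fun z => U (Multiplicative.ofAdd z.a) * W (Multiplicative.ofAdd z.b) * Pz (Multiplicative.ofAdd z.c))
    fun z z' => by
      rw [Heis.mul_a, Heis.mul_b, Heis.mul_c, ofAdd_add, ofAdd_add, ofAdd_add, ofAdd_add, map_mul U, map_mul W,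
        map_mul Pz, map_mul Pz, mul_comm z.b z'.a, ← hbil, D.comm_symm]
      set A := U (Multiplicative.ofAdd z.a)
      set A' := U (Multiplicative.ofAdd z'.a)
      set B := W (Multiplicative.ofAdd z.b)
      set B' := W (Multiplicative.ofAdd z'.b)
      set P := Pz (Multiplicative.ofAdd z.c)
      set P' := Pz (Multiplicative.ofAdd z'.c)
      have hP : ∀ g, g * P = P * g := fun g => Subgroup.mem_center_iff.1 (hPc _) g
      have hc : ∀ g, g * ⁅B, A'⁆ = ⁅B, A'⁆ * g := fun g => Subgroup.mem_center_iff.1 (D.comm_mem B A') g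
      symm
      calc A * B * P * (A' * B' * P') = A * B * (P * (A' * B')) * P' := by group
        _ = A * B * ((A' * B') * P) * P' := by rw [hP]
        _ = A * (⁅B, A'⁆ * (A' * B)) * B' * P * P' := by rw [commutatorElement_def]; group
        _ = A * ((A' * B) * ⁅B, A'⁆) * B' * P * P' := by rw [hc]
        _ = A * A' * B * (⁅B, A'⁆ * B') * (P * P') := by group
        _ = A * A' * B * (B' * ⁅B, A'⁆) * (P * P') := by rw [hc]
        _ = A * A' * (B * B') * (⁅B, A'⁆ * (P * P')) := by group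
        _ = A * A' * (B * B') * ((P * P') * ⁅B, A'⁆) := by rw [hc]
        _ = _ := by group
  have hinjP : Function.Injective Pz := by
    refine (injective_iff_map_eq_one Pz).2 fun c hc => ?_
    have hρk : D.ρ k ≠ 1 := fun h => hk (D.ρ.injective (h.trans (map_one D.ρ).symm))
    obtain ⟨y, rfl⟩ := Multiplicative.ofAdd.surjective c
    rcases hspan y with rfl | rfl | rfl | rfl
    · rfl
    · exact absurd (hP1.symm.trans hc) hk
    · rw [hPω, hadef] at hc
      exact absurd (D.ρ.injective (hc.trans (map_one D.ρ).symm)) hρk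
    · rw [ofAdd_add, map_mul, hP1, hPω, hadef, eq_inv_of_mul_eq_one_right (D.prod_eq k),
        D.inv_eq_self (mul_mem hkc (D.center_inv hkc _)), ← mul_assoc, D.center_sq hkc, one_mul] at hc
      exact absurd hc hρk
  have hinj : Function.Injective Φ := (injective_iff_map_eq_one Φ).2 fun z hz => by
    have hzz : U (Multiplicative.ofAdd z.a) * W (Multiplicative.ofAdd z.b) * Pz (Multiplicative.ofAdd z.c) = 1 := hz
    have hUU : ∀ c d : F, ⁅U (Multiplicative.ofAdd c), U (Multiplicative.ofAdd d)⁆ = 1 := fun c d =>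
      commutatorElement_eq_one_iff_mul_comm.2 (by rw [← map_mul, mul_comm, map_mul])
    have hWW : ∀ c d : F, ⁅W (Multiplicative.ofAdd c), W (Multiplicative.ofAdd d)⁆ = 1 := fun c d =>
      commutatorElement_eq_one_iff_mul_comm.2 (by rw [← map_mul, mul_comm, map_mul])
    have hPg : ∀ (c : Multiplicative F) (g : T), ⁅Pz c, g⁆ = 1 := fun c g =>
      commutatorElement_eq_one_iff_mul_comm.2 (Subgroup.mem_center_iff.1 (hPc c) g).symm
    have hga : ∀ d : F, z.a * d = 0 := fun d => by
      have h := congrArg (fun g => ⁅g, W (Multiplicative.ofAdd d)⁆) hzz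
      simp only [D.comm_mul_left, hWW, hPg, mul_one, commutatorElement_one_left, hbil] at h
      exact Multiplicative.ofAdd.injective (hinjP (h.trans (map_one Pz).symm))
    have hgb : ∀ d : F, d * z.b = 0 := fun d => by
      have h := congrArg (fun g => ⁅U (Multiplicative.ofAdd d), g⁆) hzz
      simp only [D.comm_mul_right, hUU, one_mul, commutatorElement_one_right, hbil] at h
      rw [D.comm_symm _ (Pz _), hPg, mul_one] at h
      exact Multiplicative.ofAdd.injective (hinjP (h.trans (map_one Pz).symm))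
    have ha0 : z.a = 0 := by simpa using hga 1
    have hb0 : z.b = 0 := by simpa using hgb 1
    rw [ha0, hb0, ofAdd_zero, map_one, map_one, one_mul, one_mul] at hzz
    exact Heis.ext ha0 hb0 (Multiplicative.ofAdd.injective (hinjP (hzz.trans (map_one Pz).symm)))
  refine ⟨(MulEquiv.ofBijective Φ ((Nat.bijective_iff_injective_and_card _).2 ⟨hinj, ?_⟩)).symm⟩
  rw [Heis.card, Nat.card_eq_fintype_card, hF, D.card]

/-- The fixed points of the involution. -/
theorem Setup.fixed (C : Subgroup T) (hC : ∀ y, y ∈ C ↔ D.x y = y) :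
    Nonempty (C ≃* DihedralGroup 4) ∨ Nonempty (C ≃* QuaternionGroup 2) := by
  classical
  obtain ⟨u₀, w₀, hu₀, hw₀, h₀⟩ := D.exists_noncomm
  set k := ⁅u₀, w₀⁆ with hkdef
  have hkc : k ∈ Subgroup.center T := D.comm_mem u₀ w₀
  have hk2 : k * k = 1 := D.center_sq hkc
  -- choose generators
  obtain ⟨u, w, hu, hw, huw, hcase⟩ : ∃ u w : T, D.x u = u ∧ D.x w = w ∧ ⁅u, w⁆ = k ∧
      ((u * u = 1 ∧ w * w = 1) ∨ (u * u = k ∧ w * w = k)) := by
    rcases D.sq_fixed hu₀ hw₀ h₀ hu₀ with h1 | h1 <;> rcases D.sq_fixed hu₀ hw₀ h₀ hw₀ with h2 | h2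
    · exact ⟨u₀, w₀, hu₀, hw₀, rfl, Or.inl ⟨h1, h2⟩⟩
    · refine ⟨u₀, u₀ * w₀, hu₀, by rw [map_mul, hu₀, hw₀], ?_, Or.inl ⟨h1, ?_⟩⟩
      · rw [D.comm_mul_right, commutatorElement_self, one_mul]
      · rw [D.sq_mul, h1, h2, D.comm_symm w₀ u₀, ← hkdef, one_mul, hk2]
    · refine ⟨u₀ * w₀, w₀, by rw [map_mul, hu₀, hw₀], hw₀, ?_, Or.inl ⟨?_, h2⟩⟩
      · rw [D.comm_mul_left, commutatorElement_self, mul_one]
      · rw [D.sq_mul, h1, h2, D.comm_symm w₀ u₀, ← hkdef, mul_one, hk2]
    · exact ⟨u₀, w₀, hu₀, hw₀, rfl, Or.inr ⟨h1, h2⟩⟩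
  have hxk : D.x k = k := by rw [hkdef, map_commutatorElement, hu₀, hw₀]
  -- every fixed point is in the span
  have hspan : ∀ y ∈ C, ∃ i j l : ℕ, i < 2 ∧ j < 2 ∧ l < 2 ∧ y = u ^ i * w ^ j * k ^ l := by
    intro y hy
    set G := T ⧸ Subgroup.center T
    haveI : Fintype G := Fintype.ofFinite G
    -- the fixed part of the quotient has four elements
    let Cb : Subgroup G := C.map (QuotientGroup.mk' (Subgroup.center T))
    let Φ : Cb × Cb → G := fun z => (z.1 : G) * (QuotientGroup.congr (Subgroup.center T) (Subgroup.center T) D.ρ (by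
      refine le_antisymm ?_ fun z hz => ⟨D.ρ (D.ρ z), D.center_inv (D.center_inv hz _) _, D.ρ3 z⟩
      rintro _ ⟨z, hz, rfl⟩
      exact D.center_inv hz _) (z.2 : G))
    have hΦs : Function.Surjective Φ := fun g => by
      induction g using QuotientGroup.induction_on with
      | H t =>
        obtain ⟨a, b, ha, hb, hab⟩ := D.decompose t
        exact ⟨(⟨_, a, (hC a).2 ha, rfl⟩, ⟨_, b, (hC b).2 hb, rfl⟩), QuotientGroup.eq.2 hab⟩
    have hΦi : Function.Injective Φ := by
      rintro ⟨⟨_, a, ha, rfl⟩, ⟨_, b, hb, rfl⟩⟩ ⟨⟨_, a', ha', rfl⟩, ⟨_, b', hb', rfl⟩⟩ h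
      have h' : ((a * D.ρ b : T) : G) = ((a' * D.ρ b' : T) : G) := h
      have h1 := QuotientGroup.eq.1 h'
      have hz : (a⁻¹ * a') * D.ρ (b' * b⁻¹) ∈ Subgroup.center T := by
        have h2 : (a⁻¹ * a') * D.ρ (b' * b⁻¹) = D.ρ b * ((a * D.ρ b)⁻¹ * (a' * D.ρ b')) * (D.ρ b)⁻¹ := by
          rw [map_mul, map_inv]; group
        rw [h2, Subgroup.mem_center_iff.1 h1 (D.ρ b), mul_inv_cancel_right]
        exact h1
      have hb1 := D.unique (a := a⁻¹ * a') (b := b' * b⁻¹) (by rw [map_mul, map_inv, (hC a).1 ha, (hC a').1 ha'])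
        (by rw [map_mul, map_inv, (hC b).1 hb, (hC b').1 hb']) hz
      have ha1 : a⁻¹ * a' ∈ Subgroup.center T := (Subgroup.mul_mem_cancel_right _ (D.center_inv hb1 _)).1 hz
      refine Prod.ext (Subtype.ext (QuotientGroup.eq.2 ha1)) (Subtype.ext (QuotientGroup.eq.2 ?_))
      rw [show b⁻¹ * b' = b⁻¹ * (b' * b⁻¹) * b by group, Subgroup.mem_center_iff.1 hb1 b⁻¹, inv_mul_cancel_right]
      exact hb1
    have hG : Nat.card G = 16 := by
      have h := Subgroup.card_eq_card_quotient_mul_card_subgroup (Subgroup.center T)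
      rw [D.card, D.card_center] at h
      show Nat.card (T ⧸ Subgroup.center T) = 16
      omega
    have hCb : Nat.card Cb = 4 := by
      have h := Nat.card_eq_of_bijective Φ ⟨hΦi, hΦs⟩
      rw [Nat.card_prod, hG] at h
      exact Nat.mul_self_inj.1 h
    haveI : Fintype Cb := Fintype.ofFinite Cb
    have hmem : ∀ {s}, D.x s = s → (s : G) ∈ Cb := fun {s} hs => ⟨s, (hC s).2 hs, rfl⟩
    have huw' : u * w ∉ Subgroup.center T := fun h => h₀ (by
      rw [← huw, show ⁅u, w⁆ = ⁅u, u * w⁆ by rw [D.comm_mul_right, commutatorElement_self, one_mul],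
        commutatorElement_eq_one_iff_mul_comm]
      exact Subgroup.mem_center_iff.1 h u)
    have hu' : u ∉ Subgroup.center T := fun h => h₀ (by
      rw [← huw, commutatorElement_eq_one_iff_mul_comm]; exact (Subgroup.mem_center_iff.1 h w).symm)
    have hw' : w ∉ Subgroup.center T := fun h => h₀ (by
      rw [← huw, commutatorElement_eq_one_iff_mul_comm]; exact Subgroup.mem_center_iff.1 h u)
    have hne0 : ∀ {s : T}, s ∉ Subgroup.center T → ((s : G) ≠ 1) := fun {s} hs h => hs ((QuotientGroup.eq_one_iff s).1 h)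
    have hu1 : (u : G) ≠ 1 := hne0 hu'
    have hw1 : (w : G) ≠ 1 := hne0 hw'
    have huw1 : ((u * w : T) : G) ≠ 1 := hne0 huw'
    have d1 : (u : G) ≠ (w : G) := fun h => by
      apply huw1
      rw [QuotientGroup.mk_mul, ← h, ← QuotientGroup.mk_mul]
      exact (QuotientGroup.eq_one_iff _).2 (D.mul_self_mem u)
    have d2 : (u : G) ≠ ((u * w : T) : G) := fun h => hw1 (by
      rw [QuotientGroup.mk_mul] at h; exact left_eq_mul.1 h)
    have d3 : (w : G) ≠ ((u * w : T) : G) := fun h => hu1 (by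
      rw [QuotientGroup.mk_mul] at h; exact right_eq_mul.1 h)
    have hset : ({1, (u : G), (w : G), ((u * w : T) : G)} : Finset G) = Finset.univ.filter (· ∈ Cb) := by
      refine Finset.eq_of_subset_of_card_le ?_ ?_
      · intro g hg
        simp only [Finset.mem_insert, Finset.mem_singleton] at hg
        refine Finset.mem_filter.2 ⟨Finset.mem_univ _, ?_⟩
        rcases hg with rfl | rfl | rfl | rfl
        · exact one_mem _
        · exact hmem hu
        · exact hmem hw
        · exact hmem (by rw [map_mul, hu, hw])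
      · rw [← Fintype.card_subtype, Fintype.card_eq_nat_card, hCb]
        rw [QuotientGroup.mk_mul] at huw1 d2 d3
        simp [Finset.card_insert_of_notMem, hu1.symm, hw1.symm, huw1.symm, d1, d2, d3]
    have hy' : (y : G) ∈ ({1, (u : G), (w : G), ((u * w : T) : G)} : Finset G) := by
      rw [hset]; exact Finset.mem_filter.2 ⟨Finset.mem_univ _, hmem ((hC y).1 hy)⟩
    have hfin : ∀ i j : ℕ, i < 2 → j < 2 → (y : G) = ((u ^ i * w ^ j : T) : G) →
        ∃ i j l : ℕ, i < 2 ∧ j < 2 ∧ l < 2 ∧ y = u ^ i * w ^ j * k ^ l := by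
      intro i j hi hj h
      have hz := QuotientGroup.eq.1 h.symm
      have hxz : D.x ((u ^ i * w ^ j)⁻¹ * y) = (u ^ i * w ^ j)⁻¹ * y := by
        rw [map_mul, map_inv, map_mul, map_pow, map_pow, hu, hw, (hC y).1 hy]
      rcases D.comm_fixed_unique hu₀ hw₀ h₀ hz hxz with h1 | h1
      · exact ⟨i, j, 0, hi, hj, two_pos, by rw [pow_zero, mul_one, ← mul_inv_cancel_left (u ^ i * w ^ j) y, h1, mul_one]⟩
      · exact ⟨i, j, 1, hi, hj, one_lt_two, by rw [pow_one, hkdef, ← h1, mul_inv_cancel_left]⟩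
    simp only [Finset.mem_insert, Finset.mem_singleton] at hy'
    rcases hy' with h | h | h | h
    · exact hfin 0 0 two_pos two_pos (by simpa using h)
    · exact hfin 1 0 one_lt_two two_pos (by simpa using h)
    · exact hfin 0 1 two_pos one_lt_two (by simpa using h)
    · exact hfin 1 1 one_lt_two one_lt_two (by simpa using h)
  have hcomm : u * w = k * (w * u) := by rw [← huw, commutatorElement_def]; group
  have hCu : u ∈ C := (hC u).2 hu
  have hCw : w ∈ C := (hC w).2 hw
  have hswap : w * u = k * (u * w) := by rw [hcomm, ← mul_assoc, hk2, one_mul]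
  haveI : Finite C := inferInstance
  have hgenC : ∀ R : Subgroup C, (⟨u, hCu⟩ : C) ∈ R → (⟨w, hCw⟩ : C) ∈ R → R = ⊤ := by
    intro R h1 h2
    refine eq_top_iff.2 fun y _ => ?_
    obtain ⟨i, j, l, -, -, -, hy⟩ := hspan y y.2
    have hk' : (⁅(⟨u, hCu⟩ : C), ⟨w, hCw⟩⁆ : C) ∈ R := by
      rw [commutatorElement_def]; exact mul_mem (mul_mem (mul_mem h1 h2) (inv_mem h1)) (inv_mem h2)
    have e : y = (⟨u, hCu⟩ : C) ^ i * (⟨w, hCw⟩ : C) ^ j * ⁅(⟨u, hCu⟩ : C), ⟨w, hCw⟩⁆ ^ l :=
      Subtype.ext (by simpa [← huw, commutatorElement_def] using hy)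
    rw [e]
    exact mul_mem (mul_mem (pow_mem h1 i) (pow_mem h2 j)) (pow_mem hk' l)
  rcases hcase with ⟨h1, h2⟩ | ⟨h1, h2⟩
  · left
    set a := u * w with hadef
    have ha2 : a * a = k := by
      rw [hadef, D.sq_mul, h1, h2, D.comm_symm w u, huw, one_mul, one_mul]
    have ha4 : a ^ 4 = 1 := by
      rw [show 4 = 2 * 2 from rfl, pow_mul, pow_two a, ha2, pow_two, hk2]
    have hau : ∀ n : ℕ, u * a ^ n = (a⁻¹) ^ n * u := fun n => by
      have hinv : a⁻¹ = w * u := by
        refine inv_eq_of_mul_eq_one_right ?_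
        rw [hadef, show u * w * (w * u) = u * (w * w) * u by group, h2, mul_one, h1]
      have h : SemiconjBy u a a⁻¹ := by
        show u * a = a⁻¹ * u
        rw [hinv, hadef, ← mul_assoc, h1, one_mul, mul_assoc, h1, mul_one]
      exact h.pow_right n
    have hca : a ∈ C := mul_mem hCu hCw
    let ac : C := ⟨a, hca⟩
    let uc : C := ⟨u, hCu⟩
    have hpow : ∀ i j : ZMod 4, a ^ (i + j).val = a ^ i.val * a ^ j.val := fun i j => by
      rw [← pow_add, ZMod.val_add, ← pow_eq_pow_mod _ ha4]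
    have hneg : ∀ i : ZMod 4, (a⁻¹) ^ i.val = a ^ (-i).val := fun i => by
      rw [inv_pow]
      refine inv_eq_of_mul_eq_one_right ?_
      rw [← hpow, add_neg_cancel, ZMod.val_zero, pow_zero]
    let f : DihedralGroup 4 → C := fun d => match d with
      | .r i => ac ^ i.val
      | .sr i => uc * ac ^ i.val
    have hf : ∀ d d', f (d * d') = f d * f d' := by
      intro d d'
      apply Subtype.ext
      rcases d with i | i <;> rcases d' with j | j
      · show a ^ (i + j).val = a ^ i.val * a ^ j.val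
        exact hpow i j
      · show u * a ^ (j - i).val = a ^ i.val * (u * a ^ j.val)
        rw [sub_eq_add_neg, add_comm, hpow, ← mul_assoc, ← mul_assoc, ← hneg]
        congr 1
        have h := hau i.val
        have hinv2 : u * (a⁻¹) ^ i.val = a ^ i.val * u := by
          have h3 : u * (u * a ^ i.val) * u = u * ((a⁻¹) ^ i.val * u) * u := by rw [h]
          rw [← mul_assoc u u, h1, one_mul, mul_assoc u, mul_assoc _ u u, h1, mul_one] at h3
          exact h3.symm
        exact hinv2
      · show u * a ^ (i + j).val = u * a ^ i.val * a ^ j.val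
        rw [hpow, mul_assoc]
      · show a ^ (j - i).val = u * a ^ i.val * (u * a ^ j.val)
        rw [sub_eq_add_neg, add_comm, hpow, ← hneg, hau, ← mul_assoc, mul_assoc _ u u, h1, mul_one]
    let φ : DihedralGroup 4 →* C := MonoidHom.mk' f hf
    have hs : Function.Surjective φ := MonoidHom.range_eq_top.1 (hgenC _ ⟨.sr 0, Subtype.ext (by
      show u * a ^ (0 : ZMod 4).val = u
      simp)⟩ ⟨.sr 1, Subtype.ext (by
      show u * a ^ (1 : ZMod 4).val = w
      rw [show (1 : ZMod 4).val = 1 from rfl, pow_one, hadef, ← mul_assoc, h1, one_mul])⟩)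
    have hker : Function.Injective φ := by
      refine (injective_iff_map_eq_one φ).2 fun d hd => ?_
      have hord : orderOf a = 4 := orderOf_eq_prime_pow (p := 2) (n := 1) (hp := Fact.mk Nat.prime_two)
        (by rw [pow_one, pow_two, ha2]; exact h₀) (by simpa using ha4)
      rcases d with i | i
      · have h : a ^ i.val = 1 := congrArg Subtype.val hd
        rw [← orderOf_dvd_iff_pow_eq_one, hord] at h
        have : i.val = 0 := Nat.eq_zero_of_dvd_of_lt h (ZMod.val_lt i)
        rw [(ZMod.val_eq_zero i).1 this]; rfl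
      · exfalso
        have h : u * a ^ i.val = 1 := congrArg Subtype.val hd
        have hu' : u = (a ^ i.val)⁻¹ := eq_inv_of_mul_eq_one_left h
        refine h₀ ?_
        have : Commute u a := by rw [hu']; exact ((Commute.refl a).pow_left _).inv_left
        rw [← huw, show ⁅u, w⁆ = ⁅u, a⁆ by rw [hadef, D.comm_mul_right, commutatorElement_self, one_mul],
          commutatorElement_eq_one_iff_mul_comm]
        exact this
    exact ⟨(MulEquiv.ofBijective φ ⟨hker, hs⟩).symm⟩
  · right
    have hu4 : u ^ 4 = 1 := by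
      rw [show 4 = 2 * 2 from rfl, pow_mul, pow_two u, h1, pow_two, hk2]
    let uc : C := ⟨u, hCu⟩
    let wc : C := ⟨w, hCw⟩
    have hpow : ∀ i j : ZMod (2 * 2), u ^ (i + j).val = u ^ i.val * u ^ j.val := fun i j => by
      rw [← pow_add, ZMod.val_add, ← pow_eq_pow_mod _ hu4]
    have hneg : ∀ i : ZMod (2 * 2), (u⁻¹) ^ i.val = u ^ (-i).val := fun i => by
      rw [inv_pow]
      refine inv_eq_of_mul_eq_one_right ?_
      rw [← hpow, add_neg_cancel, ZMod.val_zero, pow_zero]
    have hwu : ∀ n : ℕ, w * u ^ n = (u⁻¹) ^ n * w := fun n => by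
      have hinv : u⁻¹ = u * k := inv_eq_of_mul_eq_one_right (by rw [← mul_assoc, h1, hk2])
      have h : SemiconjBy w u u⁻¹ := by
        show w * u = u⁻¹ * w
        rw [hinv, hswap, mul_assoc u, ← Subgroup.mem_center_iff.1 hkc (u * w), mul_assoc,
          Subgroup.mem_center_iff.1 hkc w]
      exact h.pow_right n
    have hwu' : ∀ n : ℕ, u ^ n * w = w * (u⁻¹) ^ n := fun n => by
      have h := hwu n
      rw [inv_pow] at h ⊢
      rw [eq_mul_inv_iff_mul_eq, mul_assoc, h, mul_inv_cancel_left]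
    let f : QuaternionGroup 2 → C := fun d => match d with
      | .a i => uc ^ i.val
      | .xa i => wc * uc ^ i.val
    have hf : ∀ d d', f (d * d') = f d * f d' := by
      intro d d'
      apply Subtype.ext
      rcases d with i | i <;> rcases d' with j | j
      · show u ^ (i + j).val = u ^ i.val * u ^ j.val
        exact hpow i j
      · show w * u ^ (j - i).val = u ^ i.val * (w * u ^ j.val)
        rw [sub_eq_add_neg, add_comm, hpow, ← mul_assoc, ← mul_assoc, ← hneg, hwu']
      · show w * u ^ (i + j).val = w * u ^ i.val * u ^ j.val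
        rw [hpow, mul_assoc]
      · show u ^ ((2 : ℕ) + j - i : ZMod (2 * 2)).val = w * u ^ i.val * (w * u ^ j.val)
        rw [hwu, ← mul_assoc, mul_assoc _ w w, h2, hneg, show (((2 : ℕ) : ZMod (2 * 2)) + j - i) = -i + (2 + j) by
          push_cast; ring, hpow, hpow, ← mul_assoc]
        congr 2
        rw [show (2 : ZMod (2 * 2)).val = 2 from rfl, pow_two, h1]
    let φ : QuaternionGroup 2 →* C := MonoidHom.mk' f hf
    have hs : Function.Surjective φ := MonoidHom.range_eq_top.1 (hgenC _ ⟨.a 1, Subtype.ext (by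
      show u ^ (1 : ZMod (2 * 2)).val = u
      rw [show (1 : ZMod (2 * 2)).val = 1 from rfl, pow_one])⟩ ⟨.xa 0, Subtype.ext (by
      show w * u ^ (0 : ZMod (2 * 2)).val = w
      simp)⟩)
    have hker : Function.Injective φ := by
      refine (injective_iff_map_eq_one φ).2 fun d hd => ?_
      have hord : orderOf u = 4 := orderOf_eq_prime_pow (p := 2) (n := 1) (hp := Fact.mk Nat.prime_two)
        (by rw [pow_one, pow_two, h1]; exact h₀) (by simpa using hu4)
      rcases d with i | i
      · have h : u ^ i.val = 1 := congrArg Subtype.val hd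
        rw [← orderOf_dvd_iff_pow_eq_one, hord] at h
        have : i.val = 0 := Nat.eq_zero_of_dvd_of_lt h (ZMod.val_lt i)
        rw [(ZMod.val_eq_zero i).1 this]; rfl
      · exfalso
        have h : w * u ^ i.val = 1 := congrArg Subtype.val hd
        have hw' : w = (u ^ i.val)⁻¹ := eq_inv_of_mul_eq_one_left h
        refine h₀ ?_
        have : Commute u w := by rw [hw']; exact ((Commute.refl u).pow_right _).inv_right
        rw [← huw, commutatorElement_eq_one_iff_mul_comm]
        exact this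
    exact ⟨(MulEquiv.ofBijective φ ⟨hker, hs⟩).symm⟩

end Cfsg.Agent.Order64
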