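import Mathlib

/-!
A non-abelian group of order 64 with a fixed-point-free automorphism of order 3 inverted by an involution.
-/

set_option autoImplicit false
set_option linter.style.haveILetI false
open scoped commutatorElement

namespace Cfsg.Agent.Order64

variable {T : Type*} [Group T] [Finite T]

theorem modEq_one (σ : MulAut T) (hσ : σ ^ 3 = 1) (hfix : ∀ y, σ y = y → y = 1) (H : Subgroup T)
    (hH : ∀ y ∈ H, σ y ∈ H) : Nat.card H % 3 = 1 := by
  classical
  haveI := Fact.mk Nat.prime_three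
  haveI : Fintype H := Fintype.ofFinite H
  let e : H → H := fun y => ⟨σ y, hH y y.2⟩
  have he : Function.Bijective e := Finite.injective_iff_bijective.1 fun a b h =>
    Subtype.ext (σ.injective (congrArg Subtype.val h))
  let E : Function.End H := e
  have hE : E ^ 3 ^ 1 = 1 := by
    funext y
    have h : σ (σ (σ (y : T))) = y := DFunLike.congr_fun hσ (y : T)
    exact Subtype.ext h
  have hfp : Function.fixedPoints E = ({1} : Set H) := by
    ext y
    refine ⟨fun h => Subtype.ext (hfix y (congrArg Subtype.val h)), ?_⟩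
    rintro rfl
    exact Subtype.ext (map_one σ)
  have h : Fintype.card H % 3 = Fintype.card (Function.fixedPoints E) % 3 :=
    Equiv.Perm.card_fixedPoints_modEq hE
  rw [Fintype.card_eq_nat_card, Fintype.card_eq_nat_card, hfp, Nat.card_coe_set_eq,
    Set.ncard_singleton] at h
  exact h

/-- Centre of index four is impossible. -/
theorem index_ne_four {G : Type*} [Group G] [Finite G] (σ : MulAut G) (hc : ∀ y, Commute y (σ y))
    (hfix : ∀ y, y⁻¹ * σ y ∈ Subgroup.center G → y ∈ Subgroup.center G) (h3 : ∀ y, σ (σ (σ y)) = y) :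
    (Subgroup.center G).index ≠ 4 := by
  classical
  intro h4
  set Z := Subgroup.center G with hZ
  obtain ⟨y, hy⟩ : ∃ y, y ∉ Z := by
    by_contra hh
    push Not at hh
    rw [show Z = ⊤ from eq_top_iff.2 fun y _ => hh y, Subgroup.index_top] at h4
    omega
  have hσZ : ∀ z, σ z ∈ Z → z ∈ Z := fun z hz => Subgroup.mem_center_iff.2 fun g =>
    σ.injective (by rw [map_mul, map_mul]; exact Subgroup.mem_center_iff.1 hz _)
  have hσy : σ y ∉ Z := fun h => hy (hσZ _ h)
  have hσσy : σ (σ y) ∉ Z := fun h => hσy (hσZ _ h)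
  haveI : Fintype (G ⧸ Z) := Fintype.ofFinite _
  have hcard : Fintype.card (G ⧸ Z) = 4 := by rw [Fintype.card_eq_nat_card, ← Subgroup.index_eq_card, h4]
  have h0 : ∀ g, g ∉ Z → (g : G ⧸ Z) ≠ 1 := fun g hg h => hg ((QuotientGroup.eq_one_iff g).1 h)
  have h12 : (y : G ⧸ Z) ≠ (σ y : G) := fun h => hy (hfix y (QuotientGroup.eq.1 h))
  have h23 : ((σ y : G) : G ⧸ Z) ≠ (σ (σ y) : G) := fun h => hσy (hfix _ (QuotientGroup.eq.1 h))
  have h13 : (y : G ⧸ Z) ≠ (σ (σ y) : G) := fun h => hσσy (hfix _ (by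
    rw [h3]
    have := QuotientGroup.eq.1 h.symm
    exact this))
  have huniv : ({1, (y : G ⧸ Z), ((σ y : G) : G ⧸ Z), ((σ (σ y) : G) : G ⧸ Z)} : Finset (G ⧸ Z)) = Finset.univ := by
    refine Finset.eq_univ_of_card _ ?_
    rw [hcard]
    simp [Finset.card_insert_of_notMem, (h0 y hy).symm, (h0 _ hσy).symm, (h0 _ hσσy).symm, h12, h13, h23]
  have hcy : Commute (σ (σ y)) y := by
    have := hc (σ (σ y))
    rwa [h3] at this
  refine hy (Subgroup.mem_center_iff.2 fun g => ?_)
  have hg := huniv.ge (Finset.mem_univ (g : G ⧸ Z))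
  simp only [Finset.mem_insert, Finset.mem_singleton] at hg
  have hcase : ∀ a : G, Commute a y → (g : G ⧸ Z) = (a : G ⧸ Z) → g * y = y * g := fun a ha h => by
    have hz : a⁻¹ * g ∈ Z := QuotientGroup.eq.1 h.symm
    have h2 : Commute (a⁻¹ * g) y := (Subgroup.mem_center_iff.1 hz y).symm
    have h3' := ha.mul_left h2
    rwa [mul_inv_cancel_left] at h3'
  rcases hg with h | h | h | h
  · exact hcase 1 (Commute.one_left y) (h.trans (QuotientGroup.mk_one Z).symm)
  · exact hcase y (Commute.refl y) h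
  · exact hcase (σ y) (hc y).symm h
  · exact hcase _ hcy h

/-- The hypotheses. -/
structure Setup (T : Type*) [Group T] where
  ρ : MulAut T
  x : MulAut T
  card : Nat.card T = 64
  nc : ¬ IsMulCommutative T
  ρ3 : ∀ y, ρ (ρ (ρ y)) = y
  x2 : ∀ y, x (x y) = y
  xρ : ∀ y, x (ρ y) = ρ (ρ (x y))
  fp : ∀ y, ρ y = y → y = 1

variable (D : Setup T)
include D

theorem Setup.prod_eq (y : T) : y * D.ρ y * D.ρ (D.ρ y) = 1 := by
  have hs : Function.Surjective fun a => a⁻¹ * D.ρ a := Finite.surjective_of_injective fun a b h => by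
    have h1 : a⁻¹ * D.ρ a = b⁻¹ * D.ρ b := h
    have h2 : D.ρ (b * a⁻¹) = b * a⁻¹ := by
      rw [map_mul, map_inv, show D.ρ b = b * (a⁻¹ * D.ρ a) from eq_mul_of_inv_mul_eq h1.symm]
      group
    exact (mul_inv_eq_one.1 (D.fp _ h2)).symm
  obtain ⟨a, rfl⟩ := hs y
  show a⁻¹ * D.ρ a * D.ρ (a⁻¹ * D.ρ a) * D.ρ (D.ρ (a⁻¹ * D.ρ a)) = 1
  simp only [map_mul, map_inv, D.ρ3]
  group

theorem Setup.comm (y : T) : Commute y (D.ρ y) := by
  have h1 : D.ρ (D.ρ y) = (y * D.ρ y)⁻¹ := eq_inv_of_mul_eq_one_right (D.prod_eq y)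
  have h2 := D.prod_eq y⁻¹
  simp only [map_inv] at h2
  rw [h1, inv_inv] at h2
  show y * D.ρ y = D.ρ y * y
  have h3 := inv_eq_of_mul_eq_one_right h2
  rw [mul_inv_rev, inv_inv, inv_inv] at h3
  exact h3.symm

theorem Setup.center_inv {y : T} (hy : y ∈ Subgroup.center T) (σ : MulAut T) : σ y ∈ Subgroup.center T :=
  Subgroup.mem_center_iff.2 fun g => by
    rw [← σ.apply_symm_apply g, ← map_mul, ← map_mul, Subgroup.mem_center_iff.1 hy]

theorem Setup.isPGroup : IsPGroup 2 T := IsPGroup.of_card (n := 6) (by rw [D.card]; norm_num)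

theorem Setup.fix_center {y : T} (hy : y⁻¹ * D.ρ y ∈ Subgroup.center T) : y ∈ Subgroup.center T := by
  have h2 : y ^ 3 ∈ Subgroup.center T := by
    have hz := D.center_inv hy D.ρ
    rw [map_mul, map_inv] at hz
    have h := D.prod_eq y
    set c := y⁻¹ * D.ρ y with hc
    set d := (D.ρ y)⁻¹ * D.ρ (D.ρ y) with hd
    rw [show D.ρ (D.ρ y) = D.ρ y * d by rw [hd]; group, show D.ρ y = y * c by rw [hc]; group] at h
    have e : y ^ 3 = (c * c * d)⁻¹ := by
      refine eq_inv_of_mul_eq_one_left ?_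
      rw [← h, pow_three]
      have hcy := Subgroup.mem_center_iff.1 hy
      calc y * (y * y) * (c * c * d) = y * y * (y * c) * c * d := by group
        _ = y * y * c * y * c * d := by rw [hcy y]; group
        _ = y * (y * c) * (y * c * d) := by group
    rw [e]
    exact inv_mem (mul_mem (mul_mem hy hy) hz)
  obtain ⟨k, hk⟩ := D.isPGroup y
  have h1 : y ^ (2 ^ k) ∈ Subgroup.center T := hk ▸ one_mem _
  obtain ⟨m, -, hm⟩ := Nat.exists_mul_mod_eq_one_of_coprime
    (show Nat.Coprime (2 ^ k) 3 from Nat.Coprime.pow_left k (by norm_num)) (by norm_num)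
  have hy' : y = (y ^ (2 ^ k)) ^ m * ((y ^ 3) ^ (2 ^ k * m / 3))⁻¹ := by
    rw [← pow_mul, ← pow_mul, eq_mul_inv_iff_mul_eq, ← pow_succ']
    congr 1
    have := Nat.div_add_mod (2 ^ k * m) 3
    omega
  rw [hy']
  exact mul_mem (pow_mem h1 m) (inv_mem (pow_mem h2 _))

theorem Setup.card_center : Nat.card (Subgroup.center T) = 4 := by
  have hmod := modEq_one D.ρ (MulEquiv.ext fun y => D.ρ3 y) D.fp (Subgroup.center T)
    fun y hy => D.center_inv hy _
  obtain ⟨k, hk, hk'⟩ := (Nat.dvd_prime_pow Nat.prime_two).1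
    (show Nat.card (Subgroup.center T) ∣ 2 ^ 6 by
      rw [show (2 : ℕ) ^ 6 = 64 by norm_num, ← D.card]; exact Subgroup.card_subgroup_dvd_card _)
  haveI : Nontrivial T := Finite.one_lt_card_iff_nontrivial.1 (by rw [D.card]; norm_num)
  have h1 : 1 < Nat.card (Subgroup.center T) :=
    Finite.one_lt_card_iff_nontrivial.2 D.isPGroup.center_nontrivial
  have h4 := index_ne_four D.ρ D.comm (fun y => D.fix_center) D.ρ3
  have hmul := (Subgroup.center T).card_mul_index
  rw [D.card, hk'] at hmul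
  rw [hk'] at hmod h1 ⊢
  interval_cases k
  · omega
  · omega
  · norm_num
  · omega
  · exfalso; apply h4; omega
  · omega
  · exfalso
    refine D.nc ⟨⟨fun a b => ?_⟩⟩
    have htop : Subgroup.center T = ⊤ := Subgroup.index_eq_one.1 (by omega)
    exact (Subgroup.mem_center_iff.1 (htop ▸ Subgroup.mem_top b) a)

theorem Setup.comm_mem (a b : T) : ⁅a, b⁆ ∈ Subgroup.center T := by
  set Z := Subgroup.center T with hZ
  set G := T ⧸ Z
  let σ : MulAut G := QuotientGroup.congr Z Z D.ρ (by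
    refine le_antisymm ?_ fun z hz => ⟨D.ρ (D.ρ z), D.center_inv (D.center_inv hz _) _, D.ρ3 z⟩
    rintro _ ⟨z, hz, rfl⟩
    exact D.center_inv hz _)
  have hσ : ∀ y : T, σ (y : G) = ((D.ρ y : T) : G) := fun y => rfl
  have h3 : ∀ g : G, σ (σ (σ g)) = g := fun g => by
    induction g using QuotientGroup.induction_on with
    | H y => rw [hσ, hσ, hσ, D.ρ3]
  have hfp : ∀ g : G, σ g = g → g = 1 := fun g => by
    induction g using QuotientGroup.induction_on with
    | H y =>
      intro h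
      rw [hσ] at h
      exact (QuotientGroup.eq_one_iff y).2 (D.fix_center (QuotientGroup.eq.1 h.symm))
  have hfix : ∀ g : G, g⁻¹ * σ g ∈ Subgroup.center G → g ∈ Subgroup.center G := fun g hg => by
    have hs : ∀ z ∈ Subgroup.center G, σ z ∈ Subgroup.center G := fun z hz => Subgroup.mem_center_iff.2 fun w => by
      rw [← σ.apply_symm_apply w, ← map_mul, ← map_mul, Subgroup.mem_center_iff.1 hz]
    haveI : Finite G := inferInstance
    let f : Subgroup.center G → Subgroup.center G := fun z => ⟨(z : G)⁻¹ * σ z, mul_mem (inv_mem z.2) (hs z z.2)⟩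
    have hf : Function.Surjective f := Finite.surjective_of_injective fun z w h => by
      have h1 : (z : G)⁻¹ * σ z = (w : G)⁻¹ * σ w := congrArg Subtype.val h
      have h2 := eq_mul_of_inv_mul_eq h1
      have h3' : σ ((w : G) * (z : G)⁻¹) = (w : G) * (z : G)⁻¹ := by
        rw [map_mul, map_inv, h2]; group
      exact (Subtype.ext (mul_inv_eq_one.1 (hfp _ h3'))).symm
    obtain ⟨⟨z, hz⟩, hze⟩ := hf ⟨_, hg⟩
    have h1 : z⁻¹ * σ z = g⁻¹ * σ g := congrArg Subtype.val hze
    have h2 := eq_mul_of_inv_mul_eq h1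
    have h3' : σ (g * z⁻¹) = g * z⁻¹ := by
      rw [map_mul, map_inv, h2]; group
    rw [mul_inv_eq_one.1 (hfp _ h3')]
    exact hz
  have hcomm : ∀ g : G, Commute g (σ g) := fun g => by
    induction g using QuotientGroup.induction_on with
    | H y => rw [hσ]; exact (D.comm y).map (QuotientGroup.mk' Z)
  have hcard : Nat.card G = 16 := by
    have h := Subgroup.card_eq_card_quotient_mul_card_subgroup Z
    rw [D.card, D.card_center] at h
    show Nat.card (T ⧸ Z) = 16
    omega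
  have h4 := index_ne_four σ hcomm hfix h3
  have hmod := modEq_one σ (MulEquiv.ext h3) hfp (Subgroup.center G) fun y hy => Subgroup.mem_center_iff.2 fun w => by
    rw [← σ.apply_symm_apply w, ← map_mul, ← map_mul, Subgroup.mem_center_iff.1 hy]
  obtain ⟨k, hk, hk'⟩ := (Nat.dvd_prime_pow Nat.prime_two).1
    (show Nat.card (Subgroup.center G) ∣ 2 ^ 4 by
      rw [show (2 : ℕ) ^ 4 = 16 by norm_num, ← hcard]; exact Subgroup.card_subgroup_dvd_card _)
  have hGp : IsPGroup 2 G := D.isPGroup.to_quotient Z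
  haveI : Nontrivial G := Finite.one_lt_card_iff_nontrivial.1 (by rw [hcard]; norm_num)
  have h1 : 1 < Nat.card (Subgroup.center G) :=
    Finite.one_lt_card_iff_nontrivial.2 hGp.center_nontrivial
  have hmul := (Subgroup.center G).card_mul_index
  rw [hcard, hk'] at hmul
  rw [hk'] at hmod h1
  have htop : Subgroup.center G = ⊤ := Subgroup.index_eq_one.1 (by interval_cases k <;> omega)
  rw [← QuotientGroup.eq_one_iff]
  show QuotientGroup.mk' Z ⁅a, b⁆ = 1
  rw [map_commutatorElement, commutatorElement_eq_one_iff_mul_comm]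
  exact Subgroup.mem_center_iff.1 (htop ▸ Subgroup.mem_top _) _

theorem Setup.center_sq {c : T} (hc : c ∈ Subgroup.center T) : c * c = 1 := by
  by_contra hne
  let sq : Subgroup.center T → Subgroup.center T := fun z => z * z
  have hinj : Function.Injective sq := by
    let f : Subgroup.center T →* Subgroup.center T := MonoidHom.mk' sq fun z w =>
      Subtype.ext (by
        show (z : T) * w * ((z : T) * w) = (z : T) * z * ((w : T) * w)
        calc (z : T) * w * ((z : T) * w) = (z : T) * ((w : T) * z) * w := by group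
          _ = (z : T) * ((z : T) * w) * w := by rw [Subgroup.mem_center_iff.1 z.2 w]
          _ = _ := by group)
    have hR : ∀ y ∈ f.range.map (Subgroup.center T).subtype, D.ρ y ∈ f.range.map (Subgroup.center T).subtype := by
      rintro _ ⟨_, ⟨z, rfl⟩, rfl⟩
      exact ⟨_, ⟨⟨D.ρ z, D.center_inv z.2 _⟩, rfl⟩, (map_mul D.ρ _ _).symm⟩
    have hm := modEq_one D.ρ (MulEquiv.ext fun y => D.ρ3 y) D.fp _ hR
    rw [Subgroup.card_subtype, ← Subgroup.index_ker] at hm
    have hk := f.ker.card_mul_index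
    rw [D.card_center] at hk
    have hker1 : 1 ≤ Nat.card f.ker := Nat.card_pos
    have hne2 : f.ker.index ≠ 1 := fun h1 => hne (by
      have := MonoidHom.mem_ker.1 ((Subgroup.index_eq_one.1 h1).ge (Subgroup.mem_top (⟨c, hc⟩ : Subgroup.center T)))
      exact congrArg Subtype.val this)
    have hle : f.ker.index ≤ 4 := Nat.le_of_dvd (by norm_num) ⟨_, (hk ▸ mul_comm _ _ : 4 = f.ker.index * _)⟩
    have h4 : f.ker.index = 4 := by
      interval_cases h : f.ker.index <;> omega
    have hker : f.ker = ⊥ := Subgroup.eq_bot_of_card_eq _ (by rw [h4] at hk; omega)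
    exact (MonoidHom.ker_eq_bot_iff f).1 hker
  -- an element of order two in the centre
  haveI := Fact.mk Nat.prime_two
  obtain ⟨z, hz⟩ := exists_prime_orderOf_dvd_card' (G := Subgroup.center T) 2 (by rw [D.card_center]; norm_num)
  have h1 : sq z = sq 1 := by
    show z * z = 1 * 1
    rw [one_mul, ← pow_two, ← hz, pow_orderOf_eq_one]
  rw [hinj h1, orderOf_one] at hz
  norm_num at hz

theorem Setup.comm_mul_left (a b c : T) : ⁅a * b, c⁆ = ⁅a, c⁆ * ⁅b, c⁆ := by
  have h := Subgroup.mem_center_iff.1 (D.comm_mem b c)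
  calc ⁅a * b, c⁆ = a * ⁅b, c⁆ * (c * a⁻¹ * c⁻¹) := by rw [commutatorElement_def, commutatorElement_def]; group
    _ = ⁅b, c⁆ * (a * (c * a⁻¹ * c⁻¹)) := by rw [h a, mul_assoc]
    _ = ⁅b, c⁆ * ⁅a, c⁆ := by rw [commutatorElement_def a]; group
    _ = _ := (h _).symm

theorem Setup.comm_symm (a b : T) : ⁅a, b⁆ = ⁅b, a⁆ := by
  rw [← commutatorElement_inv]
  exact inv_eq_of_mul_eq_one_left (D.center_sq (D.comm_mem b a))

theorem Setup.comm_mul_right (a b c : T) : ⁅a, b * c⁆ = ⁅a, b⁆ * ⁅a, c⁆ := by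
  rw [D.comm_symm, D.comm_mul_left, D.comm_symm b, D.comm_symm c]

theorem Setup.mul_self_mem (y : T) : y * y ∈ Subgroup.center T := by
  refine Subgroup.mem_center_iff.2 fun g => ?_
  rw [← commutatorElement_eq_one_iff_mul_comm, D.comm_mul_right]
  exact D.center_sq (D.comm_mem _ _)

theorem Setup.sq_mul (a b : T) : a * b * (a * b) = a * a * (b * b) * ⁅b, a⁆ := by
  have h := Subgroup.mem_center_iff.1 (D.comm_mem b a)
  calc a * b * (a * b) = a * (⁅b, a⁆ * a) * b * b := by rw [commutatorElement_def]; group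
    _ = a * (a * ⁅b, a⁆) * b * b := by rw [h a]
    _ = a * a * (⁅b, a⁆ * (b * b)) := by group
    _ = a * a * ((b * b) * ⁅b, a⁆) := by rw [h]
    _ = _ := by group

theorem Setup.ρρ_eq (y : T) : D.ρ (D.ρ y) = (D.ρ y)⁻¹ * y⁻¹ :=
  (eq_inv_of_mul_eq_one_right (D.prod_eq y)).trans (mul_inv_rev _ _)

theorem Setup.inv_eq_self {y : T} (hy : y ∈ Subgroup.center T) : y⁻¹ = y :=
  inv_eq_of_mul_eq_one_right (D.center_sq hy)

theorem Setup.comm_inv_left (a b : T) : ⁅a⁻¹, b⁆ = ⁅a, b⁆ := by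
  have h := D.comm_mul_left a⁻¹ a b
  rw [inv_mul_cancel, commutatorElement_one_left] at h
  rw [eq_inv_of_mul_eq_one_left h.symm, D.inv_eq_self (D.comm_mem a b)]

theorem Setup.comm_inv_right (a b : T) : ⁅a, b⁻¹⁆ = ⁅a, b⁆ := by
  rw [D.comm_symm, D.comm_inv_left, D.comm_symm]

/-- The commutators between an element and the conjugate of another. -/
theorem Setup.comm_rho (u w : T) : ⁅u, D.ρ w⁆ = D.ρ (D.ρ ⁅u, w⁆) ∧ ⁅D.ρ u, w⁆ = D.ρ (D.ρ ⁅u, w⁆) := by
  set k := ⁅u, w⁆ with hk
  set a := ⁅u, D.ρ w⁆ with ha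
  set b := ⁅D.ρ u, w⁆ with hb
  have hρk : D.ρ k = ⁅D.ρ u, D.ρ w⁆ := map_commutatorElement D.ρ u w
  have h1 : D.ρ a = b * D.ρ k := by
    rw [ha, map_commutatorElement, D.ρρ_eq, D.comm_mul_right, D.comm_inv_right, D.comm_inv_right, ← hρk, ← hb]
    exact (Subgroup.mem_center_iff.1 (D.comm_mem _ _) _)
  have h2 : D.ρ b = a * D.ρ k := by
    rw [hb, map_commutatorElement, D.ρρ_eq, D.comm_mul_left, D.comm_inv_left, D.comm_inv_left, ← hρk, ← ha]
    exact (Subgroup.mem_center_iff.1 (D.comm_mem _ _) _)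
  have hab : a = b := by
    have h3 : D.ρ (a * b) = a * b := by
      rw [map_mul, h1, h2]
      calc b * D.ρ k * (a * D.ρ k) = b * (D.ρ k * a) * D.ρ k := by group
        _ = b * (a * D.ρ k) * D.ρ k := by rw [Subgroup.mem_center_iff.1 (D.comm_mem _ _) (D.ρ k)]
        _ = b * a * (D.ρ k * D.ρ k) := by group
        _ = a * b := by
          rw [D.center_sq (D.center_inv (D.comm_mem u w) _), mul_one]
          exact Subgroup.mem_center_iff.1 (D.comm_mem _ _) _
    have h4 := D.fp _ h3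
    rw [eq_inv_of_mul_eq_one_left h4, D.inv_eq_self (D.comm_mem _ _)]
  rw [← hab] at h1
  have hkc : D.ρ (D.ρ k) ∈ Subgroup.center T := D.center_inv (D.center_inv (D.comm_mem u w) _) _
  have h5 : D.ρ (a * D.ρ (D.ρ k)) = a * D.ρ (D.ρ k) := by
    rw [map_mul, h1, D.ρ3, mul_assoc]
    congr 1
    have hp := D.prod_eq k
    have h6 := eq_inv_of_mul_eq_one_right hp
    rw [D.inv_eq_self (mul_mem (D.comm_mem u w) (D.center_inv (D.comm_mem u w) _))] at h6
    rw [h6]
    exact Subgroup.mem_center_iff.1 (D.comm_mem u w) _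
  have h7 := D.fp _ h5
  have h8 : a = D.ρ (D.ρ k) := by rw [eq_inv_of_mul_eq_one_left h7, D.inv_eq_self hkc]
  exact ⟨h8, hab ▸ h8⟩

/-- A fixed representative. -/
theorem Setup.exists_fixed {y : T} (hy : y⁻¹ * D.x y ∈ Subgroup.center T) :
    ∃ c ∈ Subgroup.center T, D.x (y * c) = y * c := by
  set d := y⁻¹ * D.x y with hd
  have hxd : D.x d = d := by
    rw [hd, map_mul, map_inv, D.x2]
    rw [show (D.x y)⁻¹ * y = d⁻¹ by rw [hd]; group, D.inv_eq_self hy]
  let f : Subgroup.center T →* Subgroup.center T := MonoidHom.mk'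
    (fun z => ⟨(z : T) * D.x z, mul_mem z.2 (D.center_inv z.2 _)⟩) fun a b => Subtype.ext (by
      show (a : T) * b * D.x ((a : T) * b) = (a : T) * D.x a * ((b : T) * D.x b)
      rw [map_mul]
      calc (a : T) * b * (D.x a * D.x b) = (a : T) * ((b : T) * D.x a) * D.x b := by group
        _ = (a : T) * (D.x a * b) * D.x b := by rw [Subgroup.mem_center_iff.1 (D.center_inv a.2 D.x) b]
        _ = _ := by group)
  have hmem : (⟨d, hy⟩ : Subgroup.center T) ∈ f.ker :=
    MonoidHom.mem_ker.2 (Subtype.ext (show d * D.x d = 1 by rw [hxd]; exact D.center_sq hy))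
  have hle : f.range ≤ f.ker := by
    rintro _ ⟨z, rfl⟩
    refine MonoidHom.mem_ker.2 (Subtype.ext ?_)
    show (z : T) * D.x z * D.x ((z : T) * D.x z) = 1
    rw [map_mul, D.x2]
    calc (z : T) * D.x z * (D.x z * z) = (z : T) * (D.x z * D.x z) * z := by group
      _ = 1 := by rw [D.center_sq (D.center_inv z.2 _), mul_one, D.center_sq z.2]
  have hkerne : f.ker ≠ ⊤ := fun htop => by
    have hx : ∀ z ∈ Subgroup.center T, D.x z = z := fun z hz => by
      have h := congrArg Subtype.val (MonoidHom.mem_ker.1 (htop.ge (Subgroup.mem_top (⟨z, hz⟩ : Subgroup.center T))))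
      have h' : z * D.x z = 1 := h
      rw [eq_inv_of_mul_eq_one_right h', D.inv_eq_self hz]
    haveI : Nontrivial (Subgroup.center T) := Finite.one_lt_card_iff_nontrivial.1 (by rw [D.card_center]; norm_num)
    obtain ⟨z, hz⟩ := exists_ne (1 : Subgroup.center T)
    refine hz (Subtype.ext (D.fp z ?_))
    have h1 := D.xρ (z : T)
    rw [hx _ (D.center_inv z.2 _), hx _ z.2] at h1
    exact D.ρ.injective h1.symm
  have heq : f.range = f.ker := by
    refine Subgroup.eq_of_le_of_card_ge hle ?_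
    have h1 := f.ker.card_mul_index
    rw [Subgroup.index_ker, D.card_center] at h1
    have h2 : Nat.card f.ker ≠ 4 := fun h => hkerne (Subgroup.eq_top_of_card_eq _ (h.trans D.card_center.symm))
    have h3 := Subgroup.card_le_of_le hle
    have h4 : Nat.card f.ker ≤ 4 := Nat.le_of_dvd (by norm_num) ⟨_, h1.symm⟩
    interval_cases h : Nat.card f.ker <;> omega
  obtain ⟨c, hc⟩ : (⟨d, hy⟩ : Subgroup.center T) ∈ f.range := heq ▸ hmem
  refine ⟨c, c.2, ?_⟩
  have hce : (c : T) * D.x c = d := congrArg Subtype.val hc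
  rw [map_mul, show D.x y = y * d by rw [hd]; group, ← hce, mul_assoc, mul_assoc,
    D.center_sq (D.center_inv c.2 _), mul_one]

/-- Every element decomposes by two fixed ones. -/
theorem Setup.decompose (y : T) : ∃ a b : T, D.x a = a ∧ D.x b = b ∧ (a * D.ρ b)⁻¹ * y ∈ Subgroup.center T := by
  set Z := Subgroup.center T
  have hcm : ∀ s t : T, (QuotientGroup.mk (s * t) : T ⧸ Z) = QuotientGroup.mk (t * s) := fun s t => by
    refine QuotientGroup.eq.2 ?_
    rw [show (s * t)⁻¹ * (t * s) = ⁅t⁻¹, s⁻¹⁆ by rw [commutatorElement_def]; group]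
    exact D.comm_mem _ _
  have hb0 : (y * D.x y)⁻¹ * D.x (y * D.x y) ∈ Z := by
    rw [map_mul, D.x2]
    exact QuotientGroup.eq.1 (hcm _ _)
  obtain ⟨c, hc, hb⟩ := D.exists_fixed hb0
  set b := y * D.x y * c with hbdef
  clear_value b
  have ha0 : (y * (D.ρ b)⁻¹)⁻¹ * D.x (y * (D.ρ b)⁻¹) ∈ Z := by
    rw [map_mul, map_inv, D.xρ, hb, D.ρρ_eq]
    rw [← QuotientGroup.eq, hbdef]
    simp only [QuotientGroup.mk_mul, QuotientGroup.mk_inv]
    have hc1 : (c : T ⧸ Z) = 1 := (QuotientGroup.eq_one_iff c).2 hc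
    have hsq : ∀ g : T ⧸ Z, g * g = 1 := fun g => by
      induction g using QuotientGroup.induction_on with
      | H g => exact (QuotientGroup.eq_one_iff (g * g)).2 (D.mul_self_mem g)
    have hinv : ∀ g : T ⧸ Z, g⁻¹ = g := fun g => inv_eq_of_mul_eq_one_right (hsq g)
    have hcomm : ∀ g h : T ⧸ Z, g * h = h * g := fun g h => by
      rw [← hinv (g * h), mul_inv_rev, hinv, hinv]
    simp only [hinv, hc1, mul_one]
    set Y := (y : T ⧸ Z)
    set X := ((D.x y : T) : T ⧸ Z)
    set R := ((D.ρ (y * D.x y * c) : T) : T ⧸ Z)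
    calc Y * R = R * Y := hcomm _ _
      _ = R * (Y * (X * X)) := by rw [hsq, mul_one]
      _ = R * (Y * X) * X := by group
      _ = X * (R * (Y * X)) := hcomm _ _
  obtain ⟨c', hc', ha⟩ := D.exists_fixed ha0
  refine ⟨y * (D.ρ b)⁻¹ * c', b, ha, hb, ?_⟩
  rw [show (y * (D.ρ b)⁻¹ * c' * D.ρ b)⁻¹ * y = (D.ρ b)⁻¹ * c'⁻¹ * D.ρ b by group,
    Subgroup.mem_center_iff.1 (inv_mem hc') (D.ρ b)⁻¹, inv_mul_cancel_right]
  exact inv_mem hc'

theorem Setup.unique {a b : T} (ha : D.x a = a) (hb : D.x b = b) (h : a * D.ρ b ∈ Subgroup.center T) :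
    b ∈ Subgroup.center T := by
  have h1 := D.center_inv h D.x
  rw [map_mul, ha, D.xρ, hb] at h1
  have h2 := mul_mem (inv_mem h) h1
  rw [show (a * D.ρ b)⁻¹ * (a * D.ρ (D.ρ b)) = (D.ρ b)⁻¹ * D.ρ (D.ρ b) by group] at h2
  have := D.fix_center h2
  have h3 := D.center_inv (D.center_inv this D.ρ) D.ρ
  rwa [D.ρ3] at h3

theorem Setup.exists_noncomm : ∃ u w : T, D.x u = u ∧ D.x w = w ∧ ⁅u, w⁆ ≠ 1 := by
  by_contra hcon
  push Not at hcon
  refine D.nc ⟨⟨fun s t => ?_⟩⟩
  rw [← commutatorElement_eq_one_iff_mul_comm]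
  obtain ⟨a, b, ha, hb, hs⟩ := D.decompose s
  obtain ⟨a', b', ha', hb', ht⟩ := D.decompose t
  have hz : ∀ g, ∀ z ∈ Subgroup.center T, ⁅g, z⁆ = 1 := fun g z hz =>
    commutatorElement_eq_one_iff_mul_comm.2 (Subgroup.mem_center_iff.1 hz g)
  rw [← mul_inv_cancel_left (a * D.ρ b) s, ← mul_inv_cancel_left (a' * D.ρ b') t, D.comm_mul_left,
    D.comm_mul_right, hz _ _ ht, mul_one, D.comm_symm ((a * D.ρ b)⁻¹ * s), hz _ _ hs, mul_one, D.comm_mul_left,
    D.comm_mul_right, D.comm_mul_right, hcon a a' ha ha', (D.comm_rho a b').1, hcon a b' ha hb',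
    (D.comm_rho b a').2, hcon b a' hb ha', ← map_commutatorElement, hcon b b' hb hb']
  simp

end Cfsg.Agent.Order64
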